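import Mathlib
import Cfsg.Agent.S0205
import Cfsg.Agent.Prune
set_option linter.all false
prune_inst 0x7f00000000000000000000000000000000000000000000000000000000000000000000000000000000000000000000000000000000000000000000000000000000000000000000000000000000000000003fffffffffffffffffffffffffffbeffbdffffffff
open scoped Cfsg.Agent.FastGrp

set_option autoImplicit false

namespace Cfsg.Agent.H495.NotFour

/-- A finite group whose order is not divisible by `4` is solvable. -/
theorem isSolvable_of_not_four_dvd {G : Type*} [Group G] [Finite G] (h : ¬ 4 ∣ Nat.card G) :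
    Group.IsSolvable G := by
  by_cases h2 : 2 ∣ Nat.card G
  · have : Fact (Nat.Prime 2) := ⟨Nat.prime_two⟩
    let P : Sylow 2 G := default
    have hcard : Nat.card P ∣ 2 := by
      obtain ⟨n, hn⟩ := IsPGroup.iff_card.mp P.isPGroup'
      have h1 : Nat.card P ∣ Nat.card G := Subgroup.card_subgroup_dvd_card _
      rw [hn] at h1 ⊢
      have hn1 : n ≤ 1 := by
        by_contra hcon
        push Not at hcon
        exact h ((pow_dvd_pow 2 hcon).trans h1)
      exact (pow_dvd_pow 2 hn1).trans (by norm_num)
    have hcyc : IsCyclic P := isCyclic_of_card_dvd_prime (p := 2) hcard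
    have hmin : (Nat.card G).minFac = 2 := (Nat.minFac_eq_two_iff _).mpr h2
    let f := MonoidHom.transferSylow P (hcyc.normalizer_le_centralizer hmin)
    have hodd : Odd (Nat.card f.ker) := by
      rw [← Nat.not_even_iff_odd, even_iff_two_dvd]
      exact MonoidHom.not_dvd_card_ker_transferSylow P _
    have hs : Group.IsSolvable f.ker := Cfsg.Agent.S0205.result hodd
    have hP : Group.IsSolvable P := by
      have := P.isPGroup'.isNilpotent
      infer_instance
    exact Group.isSolvable_of_ker_le_range f.ker.subtype f (by rw [Subgroup.range_subtype])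
  · exact Cfsg.Agent.S0205.result (by rwa [← Nat.not_even_iff_odd, even_iff_two_dvd])

end Cfsg.Agent.H495.NotFour
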