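import Mathlib.GroupTheory.Sylow
import Mathlib.GroupTheory.OrderOfElement
import Mathlib.GroupTheory.Nilpotent
import Mathlib.GroupTheory.Solvable
import Mathlib.SetTheory.Cardinal.NatCard
set_option linter.all false

set_option autoImplicit false

/-!
Finite groups with the same order type (the same number of elements of each order).
-/

namespace Cfsg.Agent.H495.OrderType

/-- Two finite groups with the same order type admit an order-preserving bijection. -/
theorem exists_equiv {G H : Type*} [Group G] [Finite G] [Group H] [Finite H]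
    (hT : ∀ m : ℕ, Nat.card {g : G // orderOf g = m} = Nat.card {h : H // orderOf h = m}) :
    ∃ e : G ≃ H, ∀ g, orderOf (e g) = orderOf g := by
  let f := fun m => Classical.choice (Finite.card_eq.mp (hT m))
  refine ⟨(Equiv.sigmaFiberEquiv (orderOf : G → ℕ)).symm.trans
    ((Equiv.sigmaCongrRight f).trans (Equiv.sigmaFiberEquiv (orderOf : H → ℕ))), ?_⟩
  intro g
  simp only [Equiv.trans_apply]
  exact (f (orderOf g) ⟨g, rfl⟩).2

/-- Same order type: any set of elements defined by a condition on the order has the same size. -/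
theorem card_eq_of_equiv {G H : Type*} [Group G] [Group H]
    {e : G ≃ H} (he : ∀ g, orderOf (e g) = orderOf g) (T : ℕ → Prop) :
    Nat.card {g : G // T (orderOf g)} = Nat.card {h : H // T (orderOf h)} := by
  refine Nat.card_congr (e.subtypeEquiv fun g => ?_)
  rw [he]

section

variable {G : Type*} [Group G] [Finite G]

/-- If there are at most `|P|` elements of `p`-power order (`P` a Sylow `p`-subgroup), then `P` is
normal. -/
theorem normal_of_card_le {p : ℕ} [Fact p.Prime] (P : Sylow p G)
    (h : Nat.card {g : G // ∃ k, orderOf g = p ^ k} ≤ Nat.card P) : (P : Subgroup G).Normal := by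
  have hsub : ((P : Subgroup G) : Set G) ⊆ {g : G | ∃ k, orderOf g = p ^ k} := by
    intro g hg
    obtain ⟨k, hk⟩ := (IsPGroup.iff_orderOf.mp P.isPGroup') ⟨g, hg⟩
    exact ⟨k, by rw [← hk, Subgroup.orderOf_mk]⟩
  have heq : ((P : Subgroup G) : Set G) = {g : G | ∃ k, orderOf g = p ^ k} :=
    Set.eq_of_subset_of_ncard_le hsub h (Set.toFinite _)
  refine ⟨fun n hn g => ?_⟩
  obtain ⟨k, hk⟩ := hsub hn
  have h2 : g * n * g⁻¹ ∈ {g : G | ∃ k, orderOf g = p ^ k} := by
    refine ⟨k, ?_⟩
    rw [← hk, ← MulAut.conj_apply, MulEquiv.orderOf_eq]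
  rw [← heq] at h2
  exact h2

/-- If a Sylow `p`-subgroup `P` is normal there are exactly `|P|` elements of `p`-power order. -/
theorem card_eq_of_normal {p : ℕ} [Fact p.Prime] (P : Sylow p G) [hP : (P : Subgroup G).Normal] :
    Nat.card {g : G // ∃ k, orderOf g = p ^ k} = Nat.card P := by
  refine Nat.card_congr (Equiv.subtypeEquivRight fun g => ?_)
  constructor
  · rintro ⟨k, hk⟩
    have hz : IsPGroup p (Subgroup.zpowers g) := IsPGroup.of_card (n := k) (by
      rw [Nat.card_zpowers, hk])
    obtain ⟨Q, hQ⟩ := hz.exists_le_sylow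
    have := Sylow.unique_of_normal P hP
    have : Q = P := Subsingleton.elim _ _
    subst this
    exact hQ (Subgroup.mem_zpowers g)
  · intro hg
    obtain ⟨k, hk⟩ := (IsPGroup.iff_orderOf.mp P.isPGroup') ⟨g, hg⟩
    exact ⟨k, by rw [← hk, Subgroup.orderOf_mk]⟩

end

/-- Same order type and a normal Sylow `p`-subgroup in one group: normal Sylow `p`-subgroup in
the other. -/
theorem sylow_normal {G H : Type*} [Group G] [Finite G] [Group H] [Finite H]
    {e : G ≃ H} (he : ∀ g, orderOf (e g) = orderOf g) {p : ℕ} [Fact p.Prime] (P : Sylow p G)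
    [hP : (P : Subgroup G).Normal] (Q : Sylow p H) : (Q : Subgroup H).Normal := by
  apply normal_of_card_le
  rw [← card_eq_of_equiv he (fun n => ∃ k, n = p ^ k), card_eq_of_normal P,
    P.card_eq_multiplicity, Q.card_eq_multiplicity, Nat.card_congr e]

end Cfsg.Agent.H495.OrderType
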